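import Cfsg.Agent.Lib.Helper6.TCD.Hea.CS0
import Cfsg.Agent.Lib.Helper6.TCD.Hea.CS1
import Cfsg.Agent.Lib.Helper6.TCD.Hea.CS2
import Cfsg.Agent.Lib.Helper6.TCD.Hea.CS3
import Cfsg.Agent.Lib.Helper6.TCD.Hea.CS4
import Cfsg.Agent.Lib.Helper6.TCD.Hea.CS5
import Cfsg.Agent.Lib.Helper6.TCD.Hea.CS6
import Cfsg.Agent.Lib.Helper6.TCD.Hea.CN0
import Cfsg.Agent.Lib.Helper6.TCD.Hea.CN1
import Cfsg.Agent.Lib.Helper6.TCD.Hea.CC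
import Cfsg.Agent.Lib.Helper6.TCD.Hea.CPa0
import Cfsg.Agent.Lib.Helper6.TCD.Hea.CPb
import Cfsg.Agent.Lib.Helper6.TCD.Hea.CPc0
import Cfsg.Agent.Lib.Helper6.TCD.Hea.CR0
import Cfsg.Agent.Lib.Helper6.TCD.Hea.CR1
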